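import Groth.Agent.Lib.TsenLang.Basic
import Mathlib.RingTheory.NoetherNormalization
import Mathlib.RingTheory.Ideal.GoingUp
import Mathlib.RingTheory.KrullDimension.Polynomial
import Mathlib.RingTheory.KrullDimension.Field
import Mathlib.AlgebraicGeometry.FunctionField
import Mathlib.AlgebraicGeometry.AffineScheme
import Mathlib.AlgebraicGeometry.Morphisms.FiniteType
import Mathlib.Topology.KrullDimension
import Mathlib.RingTheory.Spectrum.Prime.Topology

/-!
# Tsen's theorem for function fields of curves
-/

namespace Groth.Agent.TsenLang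

open Curves (IsCi)
open AlgebraicGeometry CategoryTheory

universe u v

set_option linter.style.haveILetI false

/-- Chains of primes lift along injective integral extensions. -/
theorem ringKrullDim_le_of_isIntegral {R : Type u} {S : Type v} [CommRing R] [CommRing S] [Algebra R S]
    [Algebra.IsIntegral R S] (hinj : Function.Injective (algebraMap R S)) :
    ringKrullDim R ≤ ringKrullDim S := by
  refine iSup_le fun c => ?_
  have key : ∀ j ≤ c.length, ∃ d : LTSeries (PrimeSpectrum S), d.length = j ∧
      ∀ hj : j < c.length + 1,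
        d.last.asIdeal.comap (algebraMap R S) = (c ⟨j, hj⟩).asIdeal := by
    intro j hj
    induction j with
    | zero =>
      obtain ⟨Q, -, hQ, hQc⟩ := Ideal.exists_ideal_over_prime_of_isIntegral (c ⟨0, by omega⟩).asIdeal
        (⊥ : Ideal S) (by
          rw [← RingHom.ker_eq_comap_bot, (RingHom.injective_iff_ker_eq_bot _).1 hinj]
          exact bot_le)
      exact ⟨RelSeries.singleton _ ⟨Q, hQ⟩, rfl, fun _ => hQc⟩
    | succ j ih =>
      obtain ⟨d, hd, hdc⟩ := ih (by omega)
      have hlast := hdc (by omega)
      have hlt : c ⟨j, by omega⟩ < c ⟨j + 1, by omega⟩ := c.strictMono (by simp [Fin.lt_def])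
      obtain ⟨Q, hle, hQ, hQc⟩ := Ideal.exists_ideal_over_prime_of_isIntegral
        (c ⟨j + 1, by omega⟩).asIdeal d.last.asIdeal (hlast.trans_le hlt.le)
      refine ⟨d.snoc ⟨Q, hQ⟩ (lt_of_le_of_ne hle fun h => hlt.ne (PrimeSpectrum.ext ?_)), ?_, ?_⟩
      · rw [← hlast, h, hQc]
      · simp [hd]
      · intro _
        rw [RelSeries.last_snoc]
        exact hQc
  obtain ⟨d, hd, -⟩ := key c.length le_rfl
  exact le_iSup_of_le d (by rw [hd])

variable {k : Type u} [Field k] [IsAlgClosed k]

/-- Tsen: the fraction field of an at most one-dimensional affine domain is `C_1`. -/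
theorem isCi_one_fractionField (A : Type v) [CommRing A] [IsDomain A] [Algebra k A]
    [Algebra.FiniteType k A] (hdim : ringKrullDim A ≤ 1) (L : Type v) [Field L] [Algebra A L]
    [IsFractionRing A L] : IsCi L 1 := by
  obtain ⟨s, g, hg, hfin⟩ := exists_finite_inj_algHom_of_fg k A
  letI := g.toRingHom.toAlgebra
  haveI : Algebra.IsIntegral (MvPolynomial (Fin s) k) A :=
    ⟨fun x => hfin.to_isIntegral x⟩
  have hs : s ≤ 1 := by
    have h := (ringKrullDim_le_of_isIntegral (R := MvPolynomial (Fin s) k) (S := A) hg).trans hdim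
    rw [MvPolynomial.ringKrullDim_of_isNoetherianRing, ringKrullDim_eq_zero_of_field, Nat.card_fin,
      zero_add] at h
    exact_mod_cast h
  letI : Algebra k L := ((algebraMap A L).comp (algebraMap k A)).toAlgebra
  letI : Algebra (MvPolynomial (Fin s) k) L := ((algebraMap A L).comp g.toRingHom).toAlgebra
  haveI : IsScalarTower (MvPolynomial (Fin s) k) A L := IsScalarTower.of_algebraMap_eq fun _ => rfl
  let x : Fin s → L := fun i => algebraMap A L (g (MvPolynomial.X i))
  have hx : ∀ p, MvPolynomial.aeval x p = algebraMap A L (g p) := fun p => by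
    induction p using MvPolynomial.induction_on with
    | C c =>
      rw [MvPolynomial.aeval_C, RingHom.algebraMap_toAlgebra, RingHom.comp_apply,
        ← MvPolynomial.algebraMap_eq, AlgHom.commutes]
    | add p q hp hq => rw [map_add, map_add, map_add, hp, hq]
    | mul_X p i hp => rw [map_mul, map_mul, map_mul, hp, MvPolynomial.aeval_X]
  have hind : AlgebraicIndependent k x := by
    intro p q h
    rw [hx, hx] at h
    exact hg (IsFractionRing.injective A L h)
  have hbasis : IsTranscendenceBasis k x := by
    rw [hind.isTranscendenceBasis_iff_isAlgebraic]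
    haveI : Algebra.IsAlgebraic (MvPolynomial (Fin s) k) A := Algebra.IsIntegral.isAlgebraic
    haveI : Algebra.IsAlgebraic A L := IsLocalization.isAlgebraic L (nonZeroDivisors A)
    haveI : Algebra.IsAlgebraic (MvPolynomial (Fin s) k) L := Algebra.IsAlgebraic.trans _ A L
    have hT : ∀ p, algebraMap (MvPolynomial (Fin s) k) L p ∈ Algebra.adjoin k (Set.range x) := by
      intro p
      rw [Algebra.adjoin_range_eq_range_aeval]
      exact ⟨p, hx p⟩
    letI : Algebra (MvPolynomial (Fin s) k) (Algebra.adjoin k (Set.range x)) :=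
      ((algebraMap (MvPolynomial (Fin s) k) L).codRestrict _ hT).toAlgebra
    haveI : IsScalarTower (MvPolynomial (Fin s) k) (Algebra.adjoin k (Set.range x)) L :=
      IsScalarTower.of_algebraMap_eq fun _ => rfl
    refine ⟨fun y => (Algebra.IsAlgebraic.isAlgebraic (R := MvPolynomial (Fin s) k) y).extendScalars
      (fun p q h => ?_)⟩
    have h' := congrArg Subtype.val h
    exact hg (IsFractionRing.injective A L h')
  exact isCi_mono hs (by simpa using isCi_of_isTranscendenceBasis hbasis isCi_zero)

/-- Tsen: the function field of an integral curve is `C_1`. -/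
theorem isCi_one_functionField (C : Scheme.{u}) (f : C ⟶ Spec (CommRingCat.of k))
    [LocallyOfFiniteType f] [IsIntegral C] (hdim : topologicalKrullDim C ≤ 1) :
    IsCi C.functionField 1 := by
  obtain ⟨_, ⟨U, hU, rfl⟩, hxU, -⟩ :=
    C.isBasis_affineOpens.exists_subset_of_mem_open (Set.mem_univ (genericPoint C)) isOpen_univ
  haveI : Nonempty U := ⟨⟨_, hxU⟩⟩
  let φ : k →+* Γ(C, U) :=
    (f.appLE ⊤ U (by simp)).hom.comp (Scheme.ΓSpecIso (CommRingCat.of k)).inv.hom
  letI := φ.toAlgebra
  haveI : Algebra.FiniteType k Γ(C, U) := by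
    have h : φ.FiniteType := RingHom.FiniteType.comp
      (f.finiteType_appLE (isAffineOpen_top _) hU (by simp))
      (RingHom.FiniteType.of_surjective _
        (Scheme.ΓSpecIso (CommRingCat.of k)).symm.commRingCatIsoToRingEquiv.surjective)
    exact h
  haveI := functionField_isFractionRing_of_isAffineOpen C U hU
  refine isCi_one_fractionField (k := k) Γ(C, U) ?_ C.functionField
  rw [← PrimeSpectrum.topologicalKrullDim_eq_ringKrullDim]
  haveI := IsAffineOpen.isOpenImmersion_fromSpec hU
  exact (hU.fromSpec.isOpenEmbedding.isInducing.topologicalKrullDim_le).trans hdim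

end Groth.Agent.TsenLang
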