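import Groth.Agent.Lib.TsenLang.Height
import Groth.Prelude.Def_Curves
import Mathlib.RingTheory.Nullstellensatz
import Mathlib.FieldTheory.RatFunc.Basic
import Mathlib.FieldTheory.RatFunc.AsPolynomial
import Mathlib.RingTheory.Localization.Integer
import Mathlib.RingTheory.AlgebraicIndependent.AlgebraicClosure
import Mathlib.RingTheory.AlgebraicIndependent.TranscendenceBasis
import Mathlib.RingTheory.AlgebraicIndependent.Transcendental
import Mathlib.FieldTheory.IntermediateField.Algebraic
import Mathlib.FieldTheory.IntermediateField.Adjoin.Basic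

/-!
# `C_i` fields: the theorem of Tsen and Lang
-/

namespace Groth.Agent.TsenLang

open MvPolynomial
open Curves (IsCi IsCr)

universe u v w z

set_option linter.style.haveILetI false

variable {K : Type u} [Field K]

/-- The `C_i` property for arbitrary finite index types. -/
theorem exists_zero_of_isCi {i : ℕ} (hK : IsCi K i) {ρ : Type v} {σ : Type w} [Fintype ρ] [Fintype σ]
    (f : ρ → MvPolynomial σ K) (d : ρ → ℕ) (hf : ∀ r, (f r).IsHomogeneous (d r))
    (hd : ∀ r, 0 < d r) (hlt : (∑ r, d r ^ i) < Fintype.card σ) :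
    ∃ a : σ → K, a ≠ 0 ∧ ∀ r, eval a (f r) = 0 := by
  let eσ := Fintype.equivFin σ
  let eρ := Fintype.equivFin ρ
  obtain ⟨a, ha, h⟩ := hK _ _ (fun r => rename eσ (f (eρ.symm r))) (fun r => d (eρ.symm r))
    (fun r => (hf _).rename_isHomogeneous) (fun r => hd _)
    (by rwa [eρ.symm.sum_comp (fun r => d r ^ i)])
  refine ⟨a ∘ eσ, fun h0 => ha (funext fun j => ?_), fun r => ?_⟩
  · simpa using congrFun h0 (eσ.symm j)
  · simpa [eval_rename] using h (eρ r)

/-- Transport along a ring isomorphism. -/
theorem isCi_of_ringEquiv {L : Type v} [Field L] (e : K ≃+* L) {i : ℕ} (hK : IsCi K i) :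
    IsCi L i := by
  intro r n f d hf hd hlt
  obtain ⟨a, ha, h⟩ := hK r n (fun ρ => MvPolynomial.map e.symm.toRingHom (f ρ)) d
    (fun ρ => (hf ρ).map _) hd hlt
  refine ⟨e ∘ a, fun h0 => ha (funext fun j => ?_), fun ρ => ?_⟩
  · simpa using congrFun h0 j
  · have h' := h ρ
    rw [eval_map] at h'
    have := congrArg e.toRingHom h'
    rw [eval₂_comp_left, map_zero] at this
    have hid : e.toRingHom.comp e.symm.toRingHom = RingHom.id L := by ext x; simp
    rw [hid, eval₂_id] at this
    exact this

theorem isCr_one_of_isCi_one (h : IsCi K 1) : IsCr K 1 := by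
  intro n d f hf hd hlt
  obtain ⟨a, ha, h0⟩ := h 1 n (fun _ => f) (fun _ => d) (fun _ => hf) (fun _ => hd)
    (by simpa using hlt)
  exact ⟨a, ha, h0 0⟩

theorem eval_aeval_eq {R : Type v} [CommRing R] {σ : Type w} {τ : Type z} (a : τ → R)
    (g : σ → MvPolynomial τ R) (p : MvPolynomial σ R) :
    eval a (aeval g p) = eval (fun j => eval a (g j)) p := by
  induction p using MvPolynomial.induction_on with
  | C c => simp
  | add p q hp hq => rw [map_add, map_add, map_add, hp, hq]
  | mul_X p j hp => rw [map_mul, map_mul, map_mul, aeval_X, eval_X, hp]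

theorem isCi_mono {i j : ℕ} (hij : i ≤ j) (h : IsCi K i) : IsCi K j :=
  fun r n f d hf hd hlt => h r n f d hf hd
    (lt_of_le_of_lt (Finset.sum_le_sum fun ρ _ => Nat.pow_le_pow_right (hd ρ) hij) hlt)

/-- An algebraically closed field is `C_0`. -/
theorem isCi_zero [IsAlgClosed K] : IsCi K 0 := by
  classical
  intro r n f d hf hd hlt
  by_contra! hno
  have hf0 : ∀ ρ, eval (0 : Fin n → K) (f ρ) = 0 := fun ρ => by
    rw [eval_zero, constantCoeff_eq]
    exact (hf ρ).coeff_eq_zero (by simp; exact (hd ρ).ne)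
  let I : Ideal (MvPolynomial (Fin n) K) := Ideal.span (Set.range f)
  have hm : RingHom.ker (eval (0 : Fin n → K)) ≤ I.radical := by
    intro p hp
    rw [← vanishingIdeal_zeroLocus_eq_radical (K := K) I, mem_vanishingIdeal_iff]
    intro x hx
    rw [mem_zeroLocus_iff] at hx
    obtain rfl : x = 0 := by
      by_contra hx0
      obtain ⟨ρ, hρ⟩ := hno x hx0
      exact hρ (by simpa [aeval_eq_eval] using hx (f ρ) (Ideal.subset_span ⟨ρ, rfl⟩))
    simpa [aeval_eq_eval] using hp
  haveI hprime : (RingHom.ker (eval (0 : Fin n → K))).IsPrime := RingHom.ker_isPrime _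
  have hmin : RingHom.ker (eval (0 : Fin n → K)) ∈ I.minimalPrimes := by
    refine ⟨⟨hprime, Ideal.span_le.2 ?_⟩, fun q hq _ => ?_⟩
    · rintro _ ⟨ρ, rfl⟩; exact hf0 ρ
    · exact hm.trans (hq.1.radical_le_iff.2 hq.2)
  have h1 := Ideal.height_le_card_of_mem_minimalPrimes_span (Set.finite_range f) hmin
  have h2 := natCast_le_height_ker_eval_zero (k := K) n
  have h3 : (Set.range f).ncard ≤ r := by
    rw [← Set.image_univ]
    simpa using Set.ncard_image_le (f := f) (s := Set.univ)
  have h4 : n ≤ (Set.range f).ncard := by exact_mod_cast h2.trans h1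
  simp at hlt
  omega

section coordPoly

variable {E : Type v} [CommRing E] [Algebra K E] {σ : Type w}

/-- Apply a linear functional to all coefficients. -/
noncomputable def coordPoly (φ : E →ₗ[K] K) (g : MvPolynomial σ E) : MvPolynomial σ K :=
  ∑ μ ∈ g.support, monomial μ (φ (g.coeff μ))

theorem coordPoly_isHomogeneous (φ : E →ₗ[K] K) {g : MvPolynomial σ E} {d : ℕ}
    (hg : g.IsHomogeneous d) : (coordPoly φ g).IsHomogeneous d :=
  IsHomogeneous.sum _ _ _ fun μ hμ =>
    isHomogeneous_monomial _ (by
      have := hg (mem_support_iff.1 hμ)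
      rwa [Finsupp.degree_eq_weight_one])

theorem eval_coordPoly (φ : E →ₗ[K] K) (g : MvPolynomial σ E) (a : σ → K) :
    eval a (coordPoly φ g) = φ (eval (algebraMap K E ∘ a) g) := by
  rw [coordPoly, map_sum, eval_eq (algebraMap K E ∘ a) g, map_sum]
  refine Finset.sum_congr rfl fun μ _ => ?_
  rw [eval_monomial, Finsupp.prod]
  simp only [Function.comp_apply, ← map_pow, ← map_prod]
  rw [← Algebra.commutes, ← Algebra.smul_def, map_smul, smul_eq_mul, mul_comm]

end coordPoly

/-- Finite extensions preserve `C_i`. -/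
theorem isCi_of_finite {E : Type v} [Field E] [Algebra K E] [FiniteDimensional K E] {i : ℕ}
    (hK : IsCi K i) : IsCi E i := by
  intro r n f d hf hd hlt
  let b := Module.finBasis K E
  let s : (Fin n × Fin (Module.finrank K E)) → E := fun p => b p.2
  let g : Fin r → MvPolynomial (Fin n × Fin (Module.finrank K E)) E := fun ρ =>
    aeval (fun j => ∑ l, C (b l) * X (j, l)) (f ρ)
  have hg : ∀ ρ, (g ρ).IsHomogeneous (d ρ) := fun ρ => by
    have := (hf ρ).aeval (fun j => ∑ l, C (b l) * X (j, l))
      (fun j => IsHomogeneous.sum _ _ 1 fun l _ => isHomogeneous_C_mul_X _ _)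
    rwa [one_mul] at this
  obtain ⟨a, ha, h⟩ := exists_zero_of_isCi hK
    (fun p : Fin r × Fin (Module.finrank K E) => coordPoly (b.coord p.2) (g p.1))
    (fun p => d p.1) (fun p => coordPoly_isHomogeneous _ (hg p.1)) (fun p => hd p.1) (by
      rw [Fintype.sum_prod_type]
      simp only [Finset.sum_const, Finset.card_univ, Fintype.card_fin, smul_eq_mul, Fintype.card_prod,
        ← Finset.mul_sum]
      rw [mul_comm n]
      exact Nat.mul_lt_mul_of_pos_left hlt Module.finrank_pos)
  refine ⟨fun j => ∑ l, a (j, l) • b l, fun h0 => ha (funext fun p => ?_), fun ρ => ?_⟩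
  · exact Fintype.linearIndependent_iff.1 b.linearIndependent (fun l => a (p.1, l))
      (congrFun h0 p.1) p.2
  · have key : eval (algebraMap K E ∘ a) (g ρ) = eval (fun j => ∑ l, a (j, l) • b l) (f ρ) := by
      show eval _ (aeval _ (f ρ)) = _
      rw [eval_aeval_eq]
      simp [Algebra.smul_def, mul_comm]
    rw [← key]
    apply b.ext_elem
    intro l
    have := h (ρ, l)
    rw [eval_coordPoly] at this
    simpa using this

/-- Algebraic extensions preserve `C_i`. -/
theorem isCi_of_isAlgebraic {L : Type v} [Field L] [Algebra K L] [Algebra.IsAlgebraic K L] {i : ℕ}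
    (hK : IsCi K i) : IsCi L i := by
  classical
  intro r n f d hf hd hlt
  let S : Set L := ⋃ ρ, ↑(f ρ).coeffs
  have hS : S.Finite := Set.finite_iUnion fun ρ => Finset.finite_toSet _
  let E := IntermediateField.adjoin K S
  haveI : FiniteDimensional K E :=
    haveI := hS.to_subtype
    IntermediateField.finiteDimensional_adjoin fun x _ => Algebra.IsIntegral.isIntegral x
  have hcoe : ∀ ρ, f ρ ∈ (MvPolynomial.map (algebraMap E L)).range := fun ρ => by
    rw [RingHom.mem_range, ← Set.mem_range, mem_range_map_iff_coeffs_subset]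
    intro c hc
    exact ⟨⟨c, IntermediateField.subset_adjoin K S (Set.mem_iUnion.2 ⟨ρ, hc⟩)⟩, rfl⟩
  choose g hg using hcoe
  obtain ⟨a, ha, h⟩ := isCi_of_finite (E := E) hK r n g d
    (fun ρ => IsHomogeneous.of_map (algebraMap E L).injective (by rw [hg]; exact hf ρ)) hd hlt
  refine ⟨algebraMap E L ∘ a, fun h0 => ha (funext fun j => ?_), fun ρ => ?_⟩
  · exact (algebraMap E L).injective (by simpa using congrFun h0 j)
  · rw [← hg, eval_map, ← eval₂_comp, h, map_zero]

/-- `K(T)` is `C_{i+1}` if `K` is `C_i`. -/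
theorem isCi_ratFunc {i : ℕ} (hK : IsCi K i) : IsCi (RatFunc K) (i + 1) := by
  classical
  intro r n f d hf hd hlt
  -- clear denominators
  let S : Finset (RatFunc K) := Finset.univ.biUnion fun ρ => (f ρ).coeffs
  obtain ⟨b, hb⟩ := IsLocalization.exist_integer_multiples_of_finset
    (nonZeroDivisors (Polynomial K)) S
  have hmem : ∀ ρ, C (algebraMap (Polynomial K) (RatFunc K) b) * f ρ ∈
      (MvPolynomial.map (algebraMap (Polynomial K) (RatFunc K))).range := fun ρ => by
    rw [RingHom.mem_range, ← Set.mem_range, mem_range_map_iff_coeffs_subset]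
    intro c hc
    rw [Finset.mem_coe, mem_coeffs_iff] at hc
    obtain ⟨m, hm, rfl⟩ := hc
    rw [coeff_C_mul]
    have hne : (f ρ).coeff m ≠ 0 := fun h => by
      rw [mem_support_iff, coeff_C_mul, h, mul_zero] at hm; exact hm rfl
    obtain ⟨y, hy⟩ := hb _ (Finset.mem_biUnion.2 ⟨ρ, Finset.mem_univ _,
      mem_coeffs_iff.2 ⟨m, mem_support_iff.2 hne, rfl⟩⟩)
    exact ⟨y, hy.trans (Algebra.smul_def _ _)⟩
  choose g hg using hmem
  have hghom : ∀ ρ, (g ρ).IsHomogeneous (d ρ) := fun ρ =>
    IsHomogeneous.of_map (FaithfulSMul.algebraMap_injective (Polynomial K) (RatFunc K))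
      (by rw [hg]; exact (hf ρ).C_mul _)
  let δ : ℕ := Finset.univ.sup fun ρ => (g ρ).support.sup fun μ => ((g ρ).coeff μ).natDegree
  -- unknown polynomials of degree `< N`
  let N : ℕ := (∑ ρ, d ρ ^ i * (δ + 1)) + 1
  let G : Fin r → MvPolynomial (Fin n × Fin N) (Polynomial K) := fun ρ =>
    aeval (fun j => ∑ s : Fin N, C ((Polynomial.X : Polynomial K) ^ (s : ℕ)) * X (j, s)) (g ρ)
  have hG : ∀ ρ, (G ρ).IsHomogeneous (d ρ) := fun ρ => by
    have := (hghom ρ).aeval (fun j => ∑ s : Fin N, C ((Polynomial.X : Polynomial K) ^ (s : ℕ)) * X (j, s))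
      (fun j => IsHomogeneous.sum _ _ 1 fun l _ => isHomogeneous_C_mul_X _ _)
    rwa [one_mul] at this
  let ρ' := (ρ : Fin r) × Fin (δ + d ρ * (N - 1) + 1)
  obtain ⟨a, ha, h⟩ := exists_zero_of_isCi hK
    (fun p : ρ' => coordPoly (Polynomial.lcoeff K (p.2 : ℕ)) (G p.1)) (fun p => d p.1)
    (fun p => coordPoly_isHomogeneous _ (hG p.1)) (fun p => hd p.1) (by
      rw [Fintype.sum_sigma]
      simp only [Finset.sum_const, Finset.card_univ, Fintype.card_fin, smul_eq_mul, Fintype.card_prod]
      have h1 : (∑ ρ, (δ + d ρ * (N - 1) + 1) * d ρ ^ i) =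
          (∑ ρ, d ρ ^ i * (δ + 1)) + (N - 1) * ∑ ρ, d ρ ^ (i + 1) := by
        rw [Finset.mul_sum, ← Finset.sum_add_distrib]
        exact Finset.sum_congr rfl fun ρ _ => by ring
      rw [h1]
      calc (∑ ρ, d ρ ^ i * (δ + 1)) + (N - 1) * ∑ ρ, d ρ ^ (i + 1)
          < N + N * ∑ ρ, d ρ ^ (i + 1) := by
            have : (N - 1) * (∑ ρ, d ρ ^ (i + 1)) ≤ N * ∑ ρ, d ρ ^ (i + 1) :=
              Nat.mul_le_mul_right _ (Nat.sub_le N 1)
            omega
        _ = N * (∑ ρ, d ρ ^ (i + 1) + 1) := by ring
        _ ≤ N * n := Nat.mul_le_mul_left _ hlt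
        _ = n * N := mul_comm _ _)
  let x : Fin n → Polynomial K := fun j => ∑ s : Fin N, Polynomial.C (a (j, s)) * Polynomial.X ^ (s : ℕ)
  have hxdeg : ∀ j, (x j).natDegree ≤ N - 1 := fun j =>
    Polynomial.natDegree_sum_le_of_forall_le _ _ fun s _ =>
      (Polynomial.natDegree_C_mul_X_pow_le _ _).trans (by omega)
  have hzero : ∀ ρ, eval x (g ρ) = 0 := by
    intro ρ
    have key : eval (algebraMap K (Polynomial K) ∘ a) (G ρ) = eval x (g ρ) := by
      show eval _ (aeval _ (g ρ)) = _
      rw [eval_aeval_eq]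
      refine congrArg (fun z => eval z (g ρ)) (funext fun j => ?_)
      rw [map_sum]
      refine Finset.sum_congr rfl fun s _ => ?_
      rw [map_mul, eval_C, eval_X, Function.comp_apply, Polynomial.algebraMap_eq, mul_comm]
    have hdeg : (eval x (g ρ)).natDegree ≤ δ + d ρ * (N - 1) := by
      rw [eval_eq]
      refine Polynomial.natDegree_sum_le_of_forall_le _ _ fun μ hμ => ?_
      refine Polynomial.natDegree_mul_le.trans (add_le_add ?_ ?_)
      · exact (Finset.le_sup (f := fun μ => ((g ρ).coeff μ).natDegree) hμ).trans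
          (Finset.le_sup (f := fun ρ => (g ρ).support.sup fun μ => ((g ρ).coeff μ).natDegree)
            (Finset.mem_univ ρ))
      · refine (Polynomial.natDegree_prod_le _ _).trans ?_
        calc ∑ j ∈ μ.support, (x j ^ μ j).natDegree ≤ ∑ j ∈ μ.support, μ j * (N - 1) :=
              Finset.sum_le_sum fun j _ =>
                Polynomial.natDegree_pow_le.trans (Nat.mul_le_mul_left _ (hxdeg j))
          _ = d ρ * (N - 1) := by
              rw [← Finset.sum_mul, ← Finsupp.degree_apply]
              have := hghom ρ (mem_support_iff.1 hμ)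
              rw [← this, Finsupp.degree_eq_weight_one]
              rfl
    ext e
    rw [Polynomial.coeff_zero]
    by_cases he : e < δ + d ρ * (N - 1) + 1
    · have := h ⟨ρ, ⟨e, he⟩⟩
      rw [eval_coordPoly, key] at this
      exact this
    · exact Polynomial.coeff_eq_zero_of_natDegree_lt (by omega)
  refine ⟨algebraMap (Polynomial K) (RatFunc K) ∘ x, fun h0 => ha (funext fun p => ?_), fun ρ => ?_⟩
  · have hx0 : x p.1 = 0 :=
      FaithfulSMul.algebraMap_injective (Polynomial K) (RatFunc K) (by simpa using congrFun h0 p.1)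
    have := congrArg (fun q => Polynomial.coeff q (p.2 : ℕ)) hx0
    simpa [x, Polynomial.finsetSum_coeff, Polynomial.coeff_C_mul, Polynomial.coeff_X_pow,
      Fin.val_inj] using this
  · have h1 : eval (algebraMap (Polynomial K) (RatFunc K) ∘ x)
        (C (algebraMap (Polynomial K) (RatFunc K) b) * f ρ) = 0 := by
      rw [← hg, eval_map, ← eval₂_comp, hzero, map_zero]
    rw [map_mul, eval_C, mul_eq_zero] at h1
    exact h1.resolve_left (IsLocalization.to_map_ne_zero_of_mem_nonZeroDivisors _ le_rfl b.2)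

/-- Adjoining a transcendental element raises `i` by one. -/
theorem isCi_adjoin_transcendental {L : Type v} [Field L] [Algebra K L] {x : L}
    (hx : Transcendental K x) {i : ℕ} (hK : IsCi K i) :
    IsCi (IntermediateField.adjoin K ({x} : Set L)) (i + 1) :=
  isCi_of_ringEquiv (RatFunc.algEquivOfTranscendental x hx).toRingEquiv (isCi_ratFunc hK)

/-- **Tsen–Lang** for a transcendence basis. -/
theorem isCi_of_isTranscendenceBasis {L : Type v} [Field L] [Algebra K L] {m t : ℕ}
    {x : Fin t → L} (hx : IsTranscendenceBasis K x) (hK : IsCi K m) : IsCi L (m + t) := by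
  classical
  have step : ∀ j ≤ t,
      IsCi (IntermediateField.adjoin K (x '' {i | (i : ℕ) < j})) (m + j) := by
    intro j hj
    induction j with
    | zero =>
      rw [show x '' {i : Fin t | (i : ℕ) < 0} = ∅ by simp, add_zero]
      rw [IntermediateField.adjoin_empty]
      exact isCi_of_ringEquiv (IntermediateField.botEquiv K L).symm.toRingEquiv hK
    | succ j ih =>
      have htr : Transcendental (IntermediateField.adjoin K (x '' {i | (i : ℕ) < j}))
          (x ⟨j, hj⟩) :=
        IntermediateField.transcendental_adjoin_iff.2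
          (hx.1.transcendental_adjoin (by simp))
      have h := isCi_adjoin_transcendental htr (ih (by omega))
      have heq : (IntermediateField.adjoin (IntermediateField.adjoin K (x '' {i | (i : ℕ) < j}))
          ({x ⟨j, hj⟩} : Set L)).restrictScalars K =
            IntermediateField.adjoin K (x '' {i | (i : ℕ) < j + 1}) := by
        rw [IntermediateField.adjoin_adjoin_left]
        congr 1
        rw [← Set.image_singleton, ← Set.image_union]
        congr 1
        ext l
        simp [Fin.ext_iff]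
        omega
      rw [← add_assoc, ← heq]
      exact h
  have hlast := step t le_rfl
  have huniv : x '' {i : Fin t | (i : ℕ) < t} = Set.range x := by
    rw [← Set.image_univ]; congr 1; ext i; simp
  rw [huniv] at hlast
  haveI := hx.isAlgebraic_field
  exact isCi_of_isAlgebraic hlast

/-- **Tsen–Lang**. -/
theorem isCi_of_trdeg [IsAlgClosed K] {L : Type u} [Field L] [Algebra K L] {j : ℕ}
    (hj : Algebra.trdeg K L = j) : IsCi L j := by
  obtain ⟨s, hs⟩ := exists_isTranscendenceBasis K L
  have hcard := hs.cardinalMk_eq_trdeg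
  rw [hj] at hcard
  haveI : Finite s := Cardinal.lt_aleph0_iff_finite.1 (hcard ▸ Cardinal.natCast_lt_aleph0)
  have hN : Nat.card s = j := by rw [Nat.card, hcard, Cardinal.toNat_natCast]
  have hb := hs.comp_equiv (Finite.equivFinOfCardEq hN).symm
  simpa using isCi_of_isTranscendenceBasis hb isCi_zero

end Groth.Agent.TsenLang
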