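import Groth.Agent.Lib.TsenLang.Basic
import Mathlib.RingTheory.Norm.Basic
import Mathlib.LinearAlgebra.Matrix.Determinant.Basic

/-!
# Finite extensions preserve `C_1` for single forms
-/

namespace Groth.Agent.TsenLang

open MvPolynomial
open Curves (IsCr)

universe u v

set_option linter.style.haveILetI false

variable {K : Type u} [Field K]

/-- A finite extension of a `C_1` field (single forms) is `C_1`. -/
theorem isCr_one_of_finite {E : Type v} [Field E] [Algebra K E] [FiniteDimensional K E]
    (hK : IsCr K 1) : IsCr E 1 := by
  classical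
  intro n d f hf hd hlt
  let m := Module.finrank K E
  let b := Module.finBasis K E
  let σ := Fin n × Fin m
  let g : MvPolynomial σ E := aeval (fun j => ∑ l, C (b l) * X (j, l)) f
  have hg : g.IsHomogeneous d := by
    have := hf.aeval (fun j => ∑ l, C (b l) * X ((j, l) : σ))
      (fun j => IsHomogeneous.sum _ _ 1 fun l _ => isHomogeneous_C_mul_X _ _)
    rwa [one_mul] at this
  let M : Matrix (Fin m) (Fin m) (MvPolynomial σ K) :=
    ∑ l, coordPoly (b.coord l) g • (Algebra.leftMulMatrix b (b l)).map C
  have hM : M.det.IsHomogeneous (d * m) := by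
    rw [Matrix.det_apply]
    refine IsHomogeneous.sum _ _ _ fun s _ => ?_
    have hp : (∏ i, M (s i) i).IsHomogeneous (d * m) := by
      have h := IsHomogeneous.prod Finset.univ (fun i => M (s i) i) (fun _ => d) (fun i _ => by
        simp only [M, Matrix.sum_apply, Matrix.smul_apply, Matrix.map_apply, smul_eq_mul]
        refine IsHomogeneous.sum _ _ _ fun l _ => ?_
        exact (coordPoly_isHomogeneous _ hg).mul (isHomogeneous_C _ _))
      simpa [mul_comm] using h
    exact (homogeneousSubmodule σ K (d * m)).toAddSubgroup.zsmul_mem hp _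
  let e := Fintype.equivFin σ
  obtain ⟨a, ha, h0⟩ := hK (Fintype.card σ) (d * m) (rename e M.det) hM.rename_isHomogeneous
    (Nat.mul_pos hd Module.finrank_pos) (by
      rw [pow_one, Fintype.card_prod, Fintype.card_fin, Fintype.card_fin]
      exact Nat.mul_lt_mul_of_pos_right (by simpa using hlt) Module.finrank_pos)
  rw [eval_rename] at h0
  refine ⟨fun j => ∑ l, a (e (j, l)) • b l, fun hz => ha (funext fun q => ?_), ?_⟩
  · obtain ⟨⟨j, l⟩, rfl⟩ := e.surjective q
    exact Fintype.linearIndependent_iff.1 b.linearIndependent (fun l => a (e (j, l)))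
      (congrFun hz j) l
  · have key : eval (algebraMap K E ∘ (a ∘ e)) g = eval (fun j => ∑ l, a (e (j, l)) • b l) f := by
      show eval _ (aeval _ f) = _
      rw [eval_aeval_eq]
      refine congrArg (fun z => eval z f) (funext fun j => ?_)
      rw [map_sum]
      refine Finset.sum_congr rfl fun l _ => ?_
      rw [map_mul, eval_C, eval_X, Function.comp_apply, Function.comp_apply, Algebra.smul_def,
        mul_comm]
    rw [← key]
    refine (Algebra.norm_eq_zero_iff (R := K)).1 ?_
    rw [Algebra.norm_eq_matrix_det b, ← h0, RingHom.map_det]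
    congr 1
    ext p q : 1
    refine (congrArg (fun z => Algebra.leftMulMatrix b z p q)
      (b.sum_repr (eval (algebraMap K E ∘ (a ∘ e)) g)).symm).trans ?_
    simp only [map_sum, map_smul, Matrix.sum_apply, Matrix.smul_apply, smul_eq_mul,
      RingHom.mapMatrix_apply, Matrix.map_apply, M, map_mul, eval_C, eval_coordPoly,
      Module.Basis.coord_apply]

end Groth.Agent.TsenLang
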