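import Mathlib.RingTheory.Ideal.Height
import Mathlib.RingTheory.Ideal.KrullsHeightTheorem
import Mathlib.RingTheory.MvPolynomial.Basic

/-!
# Heights from chains of primes
-/

namespace Groth.Agent.TsenLang

set_option linter.style.haveILetI false

/-- A strictly increasing chain of `n + 1` primes bounds the height of the top one below by `n`. -/
theorem natCast_le_height_of_strictChain {R : Type*} [CommRing R] {n : ℕ} (Q : ℕ → Ideal R)
    (hQ : ∀ i ≤ n, (Q i).IsPrime) (hlt : ∀ i < n, Q i < Q (i + 1)) :
    (n : ℕ∞) ≤ (Q n).height := by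
  induction n with
  | zero => simp
  | succ n ih =>
    haveI := hQ n (by omega)
    haveI := hQ (n + 1) le_rfl
    have h1 := ih (fun i hi => hQ i (by omega)) (fun i hi => hlt i (by omega))
    push_cast
    calc (n : ℕ∞) + 1 ≤ (Q n).height + 1 := by gcongr
      _ ≤ (Q (n + 1)).height := Ideal.height_add_one_le_of_lt_of_isPrime (hlt n (by omega))

/-- The ideal of the origin of affine `n`-space has height at least `n`. -/
theorem natCast_le_height_ker_eval_zero {k : Type*} [Field k] (n : ℕ) :
    (n : ℕ∞) ≤ (RingHom.ker (MvPolynomial.eval (0 : Fin n → k))).height := by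
  classical
  let e : ℕ → MvPolynomial (Fin n) k →ₐ[k] MvPolynomial (Fin n) k := fun j =>
    MvPolynomial.aeval fun i => if (i : ℕ) < j then 0 else MvPolynomial.X i
  have hprime : ∀ j, (RingHom.ker (e j).toRingHom).IsPrime := fun j => RingHom.ker_isPrime _
  have heq : RingHom.ker (MvPolynomial.eval (0 : Fin n → k)) = RingHom.ker (e n).toRingHom := by
    have h : (e n).toRingHom = MvPolynomial.C.comp (MvPolynomial.eval (0 : Fin n → k)) := by
      apply MvPolynomial.ringHom_ext <;> intro <;> simp [e]
    ext p
    rw [h, RingHom.mem_ker, RingHom.mem_ker, RingHom.comp_apply, MvPolynomial.C_eq_zero]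
  rw [heq]
  refine natCast_le_height_of_strictChain (fun j => RingHom.ker (e j).toRingHom)
    (fun j _ => hprime j) fun j hj => ?_
  have hcomp : (e (j + 1)).comp (e j) = e (j + 1) := by
    apply MvPolynomial.algHom_ext
    intro i
    simp only [AlgHom.comp_apply, e, MvPolynomial.aeval_X]
    split_ifs with h1 h2 <;> simp_all <;> omega
  refine lt_of_le_of_ne (fun p hp => ?_) fun h => ?_
  · rw [RingHom.mem_ker] at hp ⊢
    change e (j + 1) p = 0
    rw [← hcomp, AlgHom.comp_apply, show e j p = 0 from hp, map_zero]
  · have h1 : MvPolynomial.X (⟨j, hj⟩ : Fin n) ∈ RingHom.ker (e (j + 1)).toRingHom := by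
      simp [e]
    rw [← h] at h1
    simp [e] at h1

end Groth.Agent.TsenLang
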